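import Groth.Agent.NegVan.MulTheta
import Groth.Agent.NegVan.Family
import Groth.Agent.EulerChar.Cartier
import Groth.Agent.IdealSh.IdealMod
import Groth.Agent.IdealSh.Stalk
import Mathlib.CategoryTheory.Abelian.DiagramLemmas.KernelCokernelComp

/-!
# The filtration by the powers of an effective Cartier divisor
-/

set_option autoImplicit false
set_option linter.style.haveILetI false
set_option backward.isDefEq.respectTransparency false
set_option backward.isDefEq.respectTransparency.types false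

universe u

open CategoryTheory Limits AlgebraicGeometry Opposite TopologicalSpace MonoidalCategory

noncomputable section

namespace Groth.Agent.CartFilt

open Groth.Agent.QCoh Groth.Agent.Props.GenLocus Groth.Agent.Props.GenTensor Groth.Agent.ProjTwist
open Groth.Agent.PullStalk.Sky Groth.Agent.PullStalk.Exact Groth.Agent.NegVan
open scoped TensorProduct

variable {X : Scheme.{u}}

/-- `G ⊗ φ`. -/
def mapR (G : X.Modules) {N N' : X.Modules} (φ : N ⟶ N') :
    CohB1.tensorMod G N ⟶ CohB1.tensorMod G N' := (DCoh.tensorBi.obj G).map φ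

theorem mapR_tmul (G : X.Modules) {N N' : X.Modules} (φ : N ⟶ N') {U : X.Opens} (g : Γ(G, U))
    (a : Γ(N, U)) : (mapR G φ).app U (tmul g a) = tmul g (φ.app U a) := by
  have h := (PresheafOfModules.sheafificationAdjunction (𝟙 X.ringCatSheaf.obj)).unit.naturality
    (CohB1.toPMod G ◁ (show CohB1.toPMod N ⟶ CohB1.toPMod N' from φ.val))
  exact congr((PresheafOfModules.Hom.app $h (op U)).hom (g ⊗ₜ[Γ(X, U)] a)).symm

theorem mapR_mulθ_one (G : X.Modules) {N : X.Modules} (θ : N ⟶ Coh.structureModule X) :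
    mapR G θ ≫ mulθ (𝟙 (Coh.structureModule X)) G = mulθ θ G := by
  refine hom_ext_tmul _ _ fun U g a => ?_
  exact (congrArg ((mulθ (𝟙 (Coh.structureModule X)) G).app U) (mapR_tmul G θ g a)).trans
    ((mulθ_tmul (𝟙 (Coh.structureModule X)) G g (θ.app U a)).trans (mulθ_tmul θ G g a).symm)

theorem stalkLin_one (x : X) (t : (Coh.structureModule X).presheaf.stalk x) :
    stalkLin (𝟙 (Coh.structureModule X)) x t = t := by
  obtain ⟨U, hx, m, rfl⟩ := exists_germM_eq (Coh.structureModule X) x t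
  exact stalkLin_germ _ U x hx m

theorem isGen_one (U : X.Opens) : IsGen (Coh.structureModule X) U (one' U) := fun V h => by
  have : sm (one' U) h = (id : Γ(X, V) → Γ(X, V)) := funext fun a =>
    (congrArg (a • ·) ((rres h).hom.map_one)).trans (mul_one a)
  rw [this]
  exact Function.bijective_id

variable [IsLocallyNoetherian X]

theorem mono_mulθ_one (G : X.Modules) [G.IsQuasicoherent] :
    Mono (mulθ (𝟙 (Coh.structureModule X)) G) :=
  mono_mulθ (LFFrame.isInvertible_structureModule X) fun x _ t => ⟨t, stalkLin_one x t⟩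

omit [IsLocallyNoetherian X] in
theorem epi_mulθ_one (G : X.Modules) : Epi (mulθ (𝟙 (Coh.structureModule X)) G) :=
  Omega.Stalks.epi_of_stalk fun x t =>
    LinearMap.mem_range.1 ((mem_range_mulθ_iff (𝟙 (Coh.structureModule X)) G (isGen_one ⊤) x trivial t).2
      ⟨t, by rw [show X.presheaf.germ ⊤ x trivial (show Γ(X, ⊤) from (𝟙 (Coh.structureModule X) :
        Coh.structureModule X ⟶ _).app ⊤ (one' ⊤)) = 1 from map_one _, one_smul]⟩)

theorem isIso_mulθ_one (G : X.Modules) [G.IsQuasicoherent] :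
    IsIso (mulθ (𝟙 (Coh.structureModule X)) G) :=
  have := mono_mulθ_one G
  have := epi_mulθ_one G
  isIso_of_mono_of_epi _

variable (I : X.IdealSheafData)

/-- multiplication `P ⊗ I ⟶ P` -/
abbrev α (P : X.Modules) : CohB1.tensorMod P (ClSub.idealMod I) ⟶ P := mulθ (ClSub.idealModι I) P

/-- `I^{⊗ j} ⟶ O` -/
def θ : ∀ j : ℕ, CohB1.tensorPow (ClSub.idealMod I) j ⟶ Coh.structureModule X
  | 0 => 𝟙 _
  | j + 1 => α I (CohB1.tensorPow (ClSub.idealMod I) j) ≫ θ j

/-- The cokernel of `P ⊗ I ⟶ P` is `P ⊗ O_D`. -/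
def cokerαIso (P : X.Modules) [P.IsQuasicoherent] :
    cokernel (α I P) ≅ CohB1.tensorMod P (ClSub.quotMod I) :=
  haveI : PreservesColimitsOfSize.{0, 0} ((DCoh.tensorBi (X := X)).obj P) :=
    KFlat.TensorLocFree.preservesColimits_tensorBi_obj P
  haveI := EulerChar.epi_toSubscheme I
  haveI := isIso_mulθ_one P
  (cokernel.mapIso (mapR P (ClSub.idealModι I)) (α I P) (Iso.refl _)
      (asIso (mulθ (𝟙 (Coh.structureModule X)) P))
      (by rw [asIso_hom, mapR_mulθ_one, Iso.refl_hom, Category.id_comp])).symm ≪≫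
    (cokernelIsCokernel _).coconePointUniqueUpToIso
      (CokernelCofork.mapIsColimit _ (EulerChar.shortExact_ideal I).gIsCokernel
        ((DCoh.tensorBi (X := X)).obj P))

variable {I} (hI : BlowUp.IsEffCartierIdeal I)

include hI in
theorem mono_α (P : X.Modules) (hP : PicF.IsInvertible P) : Mono (α I P) := by
  haveI : P.IsQuasicoherent := ProjTwist.isQCoh_of_isInvertible hP
  haveI := isIso_mulθ_one P
  haveI := (EulerChar.shortExact_ideal I).mono_f
  haveI : Mono (ClSub.idealModι I) := inferInstanceAs (Mono (kernel.ι _))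
  haveI : Mono (mapR P (ClSub.idealModι I)) :=
    CohDev.mono_tens_map (ProjTwist.isFinLocFreeOfRank_one hP) (ClSub.idealModι I)
  rw [α, ← mapR_mulθ_one]
  exact mono_comp _ _

include hI in
theorem isInvertible_pow (j : ℕ) : PicF.IsInvertible (CohB1.tensorPow (ClSub.idealMod I) j) := by
  induction j with
  | zero => exact LFFrame.isInvertible_structureModule X
  | succ j ih =>
    exact AmpleLib.isInvertible_tensorMod ih (IdealSh.IdealMod.isInvertible_of_isEffCartierIdeal I hI)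

include hI in
theorem mono_θ : ∀ j, Mono (θ I j)
  | 0 => inferInstanceAs (Mono (𝟙 (Coh.structureModule X)))
  | j + 1 => by
    haveI := mono_θ j
    haveI := mono_α hI _ (isInvertible_pow hI j)
    exact mono_comp _ _

omit [IsLocallyNoetherian X]

theorem smulO_comm {x : X} {V : X.Opens} (hV : x ∈ V) (a : Γ(X, V)) {W : X.Opens} (hW : x ∈ W) (b : Γ(X, W)) :
    X.presheaf.germ V x hV a • germM (Coh.structureModule X) W x hW b =
      X.presheaf.germ W x hW b • germM (Coh.structureModule X) V x hV a := by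
  rw [← X.presheaf.germ_res_apply (homOfLE (inf_le_left : V ⊓ W ≤ V)) x ⟨hV, hW⟩ a,
    ← X.presheaf.germ_res_apply (homOfLE (inf_le_right : V ⊓ W ≤ W)) x ⟨hV, hW⟩ b,
    ← AssSch.Stalk.germM_res (Coh.structureModule X) (inf_le_right : V ⊓ W ≤ W) x ⟨hV, hW⟩ b,
    ← AssSch.Stalk.germM_res (Coh.structureModule X) (inf_le_left : V ⊓ W ≤ V) x ⟨hV, hW⟩ a,
    ← germM_smul, ← germM_smul]
  refine congrArg (germM (Coh.structureModule X) (V ⊓ W) x ⟨hV, hW⟩) ?_
  exact mul_comm (rres (inf_le_left : V ⊓ W ≤ V) a) (rres (inf_le_right : V ⊓ W ≤ W) b)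

theorem smulO_injective (x : X) {a : X.presheaf.stalk x} (ha : IsLeftRegular a) :
    Function.Injective fun t : (Coh.structureModule X).presheaf.stalk x => a • t := by
  have hb := ((isGen_iff_isFrame _).mp (isGen_one (X := X) ⊤)).stalkComb_bijective x trivial
  have key : ∀ c : Fin 1 → X.presheaf.stalk x,
      LFFrame.stalkComb (Coh.structureModule X) (fun _ : Fin 1 => one' ⊤) x trivial c =
        c 0 • germM (Coh.structureModule X) ⊤ x trivial (one' ⊤) := fun c => by
    simp only [LFFrame.stalkComb, Fintype.linearCombination_apply, Fin.sum_univ_one]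
  intro t t' h
  obtain ⟨c, rfl⟩ := hb.2 t
  obtain ⟨c', rfl⟩ := hb.2 t'
  have h' : LFFrame.stalkComb (Coh.structureModule X) (fun _ : Fin 1 => one' ⊤) x trivial (fun _ => a * c 0) =
      LFFrame.stalkComb (Coh.structureModule X) (fun _ : Fin 1 => one' ⊤) x trivial (fun _ => a * c' 0) := by
    simp only [key] at h ⊢
    rw [mul_smul, mul_smul]
    exact h
  have h0 : c 0 = c' 0 := ha (congrFun (hb.1 h') 0)
  rw [key, key, h0]

/-- The range on stalks is the multiples of `g`. -/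
def RangeEq {P : X.Modules} (φ : P ⟶ Coh.structureModule X) (x : X) (g : X.presheaf.stalk x) : Prop :=
  ∀ t : (Coh.structureModule X).presheaf.stalk x,
    (∃ z, stalkLin φ x z = t) ↔ ∃ s : (Coh.structureModule X).presheaf.stalk x, g • s = t

variable (I) in
/-- `g` is an equation of `I` near `U`. -/
def IsEqn (U : X.affineOpens) (g : Γ(X, U.1)) : Prop :=
  g ∈ nonZeroDivisors Γ(X, U.1) ∧ I.ideal U = Ideal.span {g}

theorem exists_gen {U : X.affineOpens} {g : Γ(X, U.1)} (h : IsEqn I U g) :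
    ∃ e : Γ(ClSub.idealMod I, U.1), IsGen (ClSub.idealMod I) U.1 e ∧
      (show Γ(X, U.1) from (ClSub.idealModι I).app U.1 e) = g := by
  obtain ⟨e, he, hg⟩ := IdealSh.IdealMod.exists_isFrame_of_equation I h.1 h.2
  refine ⟨e 0, (isGen_iff_isFrame _).mpr ?_, hg⟩
  rwa [show (fun _ : Fin 1 => e 0) = e from funext fun i => by rw [Subsingleton.elim i 0]]

theorem range_idealModι {U : X.affineOpens} {g : Γ(X, U.1)} (h : IsEqn I U g) {x : X} (hx : x ∈ U.1) :
    RangeEq (ClSub.idealModι I) x (X.presheaf.germ U.1 x hx g) := by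
  obtain ⟨e, he, hg⟩ := exists_gen h
  intro t
  constructor
  · rintro ⟨z, rfl⟩
    obtain ⟨W, hxW, m, rfl⟩ := exists_germM_eq _ x z
    obtain ⟨c, hc, -⟩ := he.exists_eq (inf_le_right : W ⊓ U.1 ≤ U.1) (res _ inf_le_left m)
    refine ⟨germM (Coh.structureModule X) (W ⊓ U.1) x ⟨hxW, hx⟩ c, ?_⟩
    rw [← AssSch.Stalk.germM_res _ (inf_le_left : W ⊓ U.1 ≤ W) x ⟨hxW, hx⟩ m, stalkLin_germ, hc,
      Scheme.Modules.Hom.app_smul, app_res, germM_smul, AssSch.Stalk.germM_res]
    rw [← hg]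
    exact smulO_comm hx _ _ _
  · rintro ⟨s, rfl⟩
    obtain ⟨W, hW, c, rfl⟩ := exists_germM_eq (Coh.structureModule X) x s
    refine ⟨X.presheaf.germ W x hW c • germM _ U.1 x hx e, ?_⟩
    rw [map_smul, stalkLin_germ, ← hg]
    exact smulO_comm hW c hx _

theorem range_θ {U : X.affineOpens} {g : Γ(X, U.1)} (h : IsEqn I U g) {x : X} (hx : x ∈ U.1) :
    ∀ j, RangeEq (θ I j) x (X.presheaf.germ U.1 x hx g ^ j)
  | 0 => fun t => ⟨fun _ => ⟨t, (pow_zero (X.presheaf.germ U.1 x hx g)).symm ▸ one_smul _ t⟩,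
      fun _ => ⟨t, stalkLin_one x t⟩⟩
  | j + 1 => fun t => by
    obtain ⟨e, he, hg⟩ := exists_gen h
    have hj := range_θ h hx j
    have hr := mem_range_mulθ_iff (ClSub.idealModι I) (CohB1.tensorPow (ClSub.idealMod I) j) he x hx
    constructor
    · rintro ⟨z, rfl⟩
      obtain ⟨s, hs⟩ := (hr _).1 (LinearMap.mem_range_self _ z)
      obtain ⟨s', hs'⟩ := (hj _).1 ⟨s, rfl⟩
      refine ⟨s', ?_⟩
      refine Eq.trans ?_ ((stalkLin_comp' _ _ x _).trans (Eq.refl _)).symm
      refine Eq.trans ?_ (congrArg (stalkLin (θ I j) x) hs)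
      rw [map_smul, ← hs', hg, pow_succ', mul_smul]
    · rintro ⟨s, rfl⟩
      obtain ⟨z, hz⟩ := (hj _).2 ⟨s, rfl⟩
      obtain ⟨w, hw⟩ := LinearMap.mem_range.1 ((hr _).2 ⟨z, rfl⟩)
      refine ⟨w, ?_⟩
      refine ((stalkLin_comp' _ _ x w).trans (congrArg (stalkLin (θ I j) x) hw)).trans ?_
      rw [map_smul, hz, hg, pow_succ', mul_smul]

theorem isEqn_pow {U : X.affineOpens} {g : Γ(X, U.1)} (h : IsEqn I U g) (m : ℕ) :
    IsEqn (I ^ m) U (g ^ m) :=
  ⟨pow_mem h.1 m, by
    rw [Scheme.IdealSheafData.ideal_pow, Pi.pow_apply, h.2, Ideal.span_singleton_pow]⟩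

/-- A submodule of `O` with the stalks of an ideal sheaf is that ideal sheaf. -/
theorem exists_iso_idealMod (J : X.IdealSheafData) {P : X.Modules} (φ : P ⟶ Coh.structureModule X)
    [Mono φ] (hφ : ∀ x, ∃ g, RangeEq φ x g ∧ RangeEq (ClSub.idealModι J) x g) :
    ∃ e : P ≅ ClSub.idealMod J, e.hom ≫ ClSub.idealModι J = φ := by
  have hS := EulerChar.shortExact_ideal J
  have hz : φ ≫ ClSub.toSubscheme J = 0 := by
    refine Omega.Stalks.hom_ext_stalk fun x => LinearMap.ext fun z => ?_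
    obtain ⟨g, h₁, h₂⟩ := hφ x
    obtain ⟨s, hs⟩ := (h₁ _).1 ⟨z, rfl⟩
    obtain ⟨y, hy⟩ := (h₂ _).2 ⟨s, hs⟩
    refine (stalkLin_comp' _ _ x z).trans (Eq.trans ?_ (CohDev.stalkLin_zero_apply x z).symm)
    rw [← hy]
    exact ((stalk_exact hS x).2.1 _).2 ⟨y, rfl⟩
  let k : P ⟶ ClSub.idealMod J := kernel.lift (ClSub.toSubscheme J) φ hz
  have hk : k ≫ ClSub.idealModι J = φ := kernel.lift_ι _ _ _
  haveI : Mono k := mono_of_mono_fac hk
  haveI : Epi k := Omega.Stalks.epi_of_stalk fun x y => by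
    obtain ⟨g, h₁, h₂⟩ := hφ x
    obtain ⟨s, hs⟩ := (h₂ _).1 ⟨y, rfl⟩
    obtain ⟨z, hz'⟩ := (h₁ _).2 ⟨s, hs⟩
    refine ⟨z, (stalk_exact hS x).1 ?_⟩
    rw [← hz', ← hk]
    exact (stalkLin_comp' _ _ x z).symm
  haveI := isIso_of_mono_of_epi k
  exact ⟨asIso k, hk⟩

/-- The cokernel of such a submodule. -/
theorem nonempty_cokernel_iso (J : X.IdealSheafData) {P : X.Modules} (φ : P ⟶ Coh.structureModule X)
    [Mono φ] (hφ : ∀ x, ∃ g, RangeEq φ x g ∧ RangeEq (ClSub.idealModι J) x g) :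
    Nonempty (cokernel φ ≅ ClSub.quotMod J) := by
  obtain ⟨e, he⟩ := exists_iso_idealMod J φ hφ
  exact ⟨cokernel.mapIso φ (ClSub.idealModι J) e (Iso.refl _) (by simp [he]) ≪≫
    (cokernelIsCokernel _).coconePointUniqueUpToIso (EulerChar.shortExact_ideal J).gIsCokernel⟩

include hI in
theorem nonempty_cokernel_θ [IsLocallyNoetherian X] (m : ℕ) :
    Nonempty (cokernel (θ I m) ≅ ClSub.quotMod (I ^ m)) ∧
      Nonempty (CohB1.tensorPow (ClSub.idealMod I) m ≅ ClSub.idealMod (I ^ m)) := by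
  haveI := mono_θ hI m
  have h : ∀ x, ∃ g, RangeEq (θ I m) x g ∧ RangeEq (ClSub.idealModι (I ^ m)) x g := fun x => by
    obtain ⟨U, hxU, f, hf, he⟩ := hI x
    refine ⟨_, range_θ ⟨hf, he⟩ hxU m, ?_⟩
    rw [← map_pow]
    exact range_idealModι (isEqn_pow ⟨hf, he⟩ m) hxU
  obtain ⟨e, -⟩ := exists_iso_idealMod (I ^ m) (θ I m) h
  exact ⟨nonempty_cokernel_iso (I ^ m) (θ I m) h, ⟨e⟩⟩

include hI in
/-- An ideal with a global equation is free. -/
theorem nonempty_structure_iso_of_eqn (π : Γ(X, ⊤))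
    (hπ : ∀ U : X.affineOpens, I.ideal U = Ideal.span {rres (le_top : U.1 ≤ ⊤) π}) :
    Nonempty (Coh.structureModule X ≅ ClSub.idealMod I) := by
  have hreg : ∀ x (U : X.affineOpens), x ∈ U.1 → ∀ f, IsEqn I U f → IsEqn I U (rres (le_top : U.1 ≤ ⊤) π) := by
    intro x U _ f hf
    refine ⟨?_, hπ U⟩
    obtain ⟨a, ha⟩ := Ideal.mem_span_singleton'.1
      (show f ∈ Ideal.span {rres (le_top : U.1 ≤ ⊤) π} from
        hπ U ▸ hf.2 ▸ Ideal.subset_span rfl)
    exact (mul_mem_nonZeroDivisors.1 (ha ▸ hf.1)).2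
  have hφ : ∀ x, ∃ g ∈ nonZeroDivisors (X.presheaf.stalk x),
      RangeEq (TwSh.scalarEnd (Coh.structureModule X) π) x g ∧ RangeEq (ClSub.idealModι I) x g := fun x => by
    obtain ⟨U, hxU, f, hf, he⟩ := hI x
    have hπ' := hreg x U hxU f ⟨hf, he⟩
    refine ⟨_, IdealSh.Regular.germ_mem_nonZeroDivisors U.2 x hxU hπ'.1, ?_, range_idealModι hπ' hxU⟩
    intro t
    simp only [stalkLin_scalarEnd]
    rw [show X.presheaf.germ U.1 x hxU (rres (le_top : U.1 ≤ ⊤) π) = X.presheaf.germ ⊤ x trivial π from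
      X.presheaf.germ_res_apply _ x hxU π]
  haveI : Mono (TwSh.scalarEnd (Coh.structureModule X) π) :=
    KFlat.StalkTensor.mono_of_stalk_injective _ fun x a b hab => by
      obtain ⟨g, hg, h₁, -⟩ := hφ x
      have hg' : IsLeftRegular (X.presheaf.germ ⊤ x trivial π) := by
        obtain ⟨U, hxU, f, hf, he⟩ := hI x
        have := IdealSh.Regular.germ_mem_nonZeroDivisors U.2 x hxU (hreg x U hxU f ⟨hf, he⟩).1
        rw [show X.presheaf.germ U.1 x hxU (rres (le_top : U.1 ≤ ⊤) π) = X.presheaf.germ ⊤ x trivial π from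
          X.presheaf.germ_res_apply _ x hxU π] at this
        exact isLeftRegular_iff_mem_nonZeroDivisorsLeft.2 this.1
      exact smulO_injective x hg' ((stalkLin_scalarEnd _ π x a).symm.trans
        (hab.trans (stalkLin_scalarEnd _ π x b)))
  obtain ⟨e, -⟩ := exists_iso_idealMod I (TwSh.scalarEnd (Coh.structureModule X) π) fun x => by
    obtain ⟨g, -, h⟩ := hφ x
    exact ⟨g, h⟩
  exact ⟨e⟩

/-- `0 ⟶ (I^j/I^{j+1}) ⟶ O/I^{j+1} ⟶ O/I^j ⟶ 0` -/
def stepS (j : ℕ) : ShortComplex X.Modules :=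
  ShortComplex.mk
    (cokernel.map (α I _) (θ I (j + 1)) (𝟙 _) (θ I j) (Category.id_comp _).symm)
    (cokernel.map (θ I (j + 1)) (θ I j) (α I _) (𝟙 _) (Category.comp_id _))
    (Cofork.IsColimit.hom_ext (cokernelIsCokernel (α I (CohB1.tensorPow (ClSub.idealMod I) j))) (by simp))

include hI in
theorem stepS_shortExact [IsLocallyNoetherian X] (j : ℕ) : (stepS (I := I) j).ShortExact := by
  haveI := mono_θ hI j
  let a := α I (CohB1.tensorPow (ClSub.idealMod I) j)
  have h := kernelCokernelCompSequence_exact a (θ I j)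
  have h2 := h.exact 2
  have h3 := h.exact 3
  refine { exact := ?_, mono_f := ?_, epi_g := ?_ }
  · exact h3
  · exact h2.mono_g (IsZero.eq_of_src (isZero_kernel_of_mono (θ I j)) _ _)
  · exact inferInstanceAs (Epi ((kernelCokernelCompSequence a (θ I j)).map' 4 5))

end Groth.Agent.CartFilt
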