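import Groth.Agent.CartFilt.Basic
import Groth.Agent.ClUnit.Basic
import Groth.Agent.Props.KilledSub
import Groth.Agent.PCohD.Push
import Groth.Agent.KFlat.PullTensor
import Groth.Agent.ZClosLib.CohDescent
import Groth.Agent.FormalFun.TowerVan
import Groth.Agent.EulerChar.Restrict
import Groth.Agent.Snapper.Basic

/-!
# The filtration of a multiple divisor by closed pullback; periodic twists
-/

set_option autoImplicit false
set_option maxHeartbeats 400000
set_option linter.style.haveILetI false

universe u

open CategoryTheory Limits AlgebraicGeometry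

noncomputable section

namespace Groth.Agent.CartFilt

open Groth.Agent.PullStalk.Sky Groth.Agent.PullStalk.Exact

variable {X Z : Scheme.{u}} (i : Z ⟶ X) [IsClosedImmersion i]

/-- `G` comes from `Z`. -/
abbrev Killed (G : X.Modules) : Prop :=
  IsIso ((Scheme.Modules.pullbackPushforwardAdjunction i).unit.app G)

theorem killed_of_iso {G H : X.Modules} (e : G ≅ H) (h : Killed i G) : Killed i H := by
  have hn := (Scheme.Modules.pullbackPushforwardAdjunction i).unit.naturality e.inv
  haveI := h
  haveI : IsIso ((𝟭 X.Modules).map e.inv ≫ (Scheme.Modules.pullbackPushforwardAdjunction i).unit.app G) :=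
    inferInstance
  rw [hn] at this
  exact IsIso.of_isIso_comp_right _
    ((Scheme.Modules.pullback i ⋙ Scheme.Modules.pushforward i).map e.inv)

theorem killed_of_mono {G H : X.Modules} (φ : G ⟶ H) (hinj : ∀ x, Function.Injective (stalkLin φ x))
    (h : Killed i H) : Killed i G := by
  obtain ⟨h₁, h₂⟩ := (ClUnit.isIso_unit_iff_stalk i H).1 h
  refine (ClUnit.isIso_unit_iff_stalk i G).2 ⟨fun z r hr t => hinj _ ?_, fun x hx => ?_⟩
  · rw [map_smul, h₁ z r hr, map_zero]
  · haveI := h₂ x hx
    exact (hinj x).subsingleton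

theorem killed_of_epi {G H : X.Modules} (φ : G ⟶ H) [Epi φ] (h : Killed i G) : Killed i H := by
  obtain ⟨h₁, h₂⟩ := (ClUnit.isIso_unit_iff_stalk i G).1 h
  refine (ClUnit.isIso_unit_iff_stalk i H).2 ⟨fun z r hr t => ?_, fun x hx => ?_⟩
  · obtain ⟨t', rfl⟩ := stalk_surjective φ _ t
    rw [← map_smul, h₁ z r hr, map_zero]
  · haveI := h₂ x hx
    exact (stalk_surjective φ x).subsingleton

/-- Pullback to `Z` is exact on modules coming from `Z`. -/
theorem shortExact_pullback {S : ShortComplex X.Modules} (hS : S.ShortExact) (h₁ : Killed i S.X₁)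
    (h₂ : Killed i S.X₂) (h₃ : Killed i S.X₃) : (S.map (Scheme.Modules.pullback i)).ShortExact := by
  haveI := h₁
  haveI := h₂
  haveI := h₃
  haveI := PCohD.faithful_push i i.isClosedEmbedding.isInducing
  have e : S ≅ (S.map (Scheme.Modules.pullback i)).map (Scheme.Modules.pushforward i) :=
    ShortComplex.isoMk (@asIso _ _ _ _ _ h₁) (@asIso _ _ _ _ _ h₂) (@asIso _ _ _ _ _ h₃)
      ((Scheme.Modules.pullbackPushforwardAdjunction i).unit.naturality S.f).symm
      ((Scheme.Modules.pullbackPushforwardAdjunction i).unit.naturality S.g).symm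
  have h := ShortComplex.shortExact_of_iso e hS
  haveI := h.mono_f
  haveI := h.epi_g
  exact
    { exact := (ShortComplex.exact_map_iff_of_faithful _ _).1 h.exact
      mono_f := (Scheme.Modules.pushforward i).mono_of_mono_map h.mono_f
      epi_g := (Scheme.Modules.pushforward i).epi_of_epi_map h.epi_g }

variable {I : X.IdealSheafData} (hI : BlowUp.IsEffCartierIdeal I) [IsLocallyNoetherian X]

omit [IsClosedImmersion i] in
/-- Inverse image of a tensor product. -/
theorem nonempty_pullTensor (A B : X.Modules) :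
    Nonempty ((Scheme.Modules.pullback i).obj (CohB1.tensorMod A B) ≅
      CohB1.tensorMod ((Scheme.Modules.pullback i).obj A) ((Scheme.Modules.pullback i).obj B)) :=
  ⟨KFlat.PullTensor.pullTensorIso i A B⟩

variable (I) in
/-- `O/I^j` -/
abbrev Q (j : ℕ) : X.Modules := cokernel (θ I j)

include hI in
theorem killed_Q {m : ℕ} (hm : Killed i (Q I m)) (j : ℕ) (hj : j ≤ m) : Killed i (Q I j) :=
  Nat.decreasingInduction' (fun n _ _ ih => by
    exact @killed_of_epi _ _ i _ _ _ (stepS (I := I) n).g (stepS_shortExact hI n).epi_g ih) hj hm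

variable (k : Type u) [Field k] [Z.Over (Spec (CommRingCat.of k))]
  [IsProper (Z ↘ Spec (CommRingCat.of k))]

include hI in
/-- `χ(O/I^m) = ∑ χ(O_D ⊗ N^j)` on `Z`. -/
theorem euler_Q {m : ℕ} (hm : Killed i (Q I m)) (j : ℕ) (hj : j ≤ m) :
    Curv2.euler k Z ((Scheme.Modules.pullback i).obj (Q I j)) =
      ∑ a ∈ Finset.range j, Curv2.euler k Z (CohB1.tensorMod
        (CohB1.tensorPow ((Scheme.Modules.pullback i).obj (ClSub.idealMod I)) a)
        ((Scheme.Modules.pullback i).obj (ClSub.quotMod I))) := by
  haveI := EulerChar.isNoetherian k (X := Z)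
  haveI : (Coh.structureModule I.subscheme).IsQuasicoherent :=
    ProjTwist.isQuasicoherent_structureModule I.subscheme
  have hO : Coh.IsCoh (Coh.structureModule X) := ProperFin.isCoh_structureModule X
  induction j with
  | zero =>
    rw [Finset.sum_range_zero]
    refine EulerChar.euler_of_isZero k ?_
    haveI : Epi (θ I 0) := inferInstanceAs (Epi (𝟙 (Coh.structureModule X)))
    exact ((Scheme.Modules.pullback i).map_isZero (isZero_cokernel_of_epi (θ I 0)))
  | succ j ih =>
    have hS := stepS_shortExact hI j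
    have hk₂ := killed_Q i hI hm (j + 1) hj
    have hk₃ := killed_Q i hI hm j (Nat.le_of_succ_le hj)
    have hk₁ := killed_of_mono i (stepS (I := I) j).f (fun x => (stalk_exact hS x).1) hk₂
    have hZ := shortExact_pullback i hS hk₁ hk₂ hk₃
    have hinv := isInvertible_pow hI j
    haveI := ProjTwist.isQCoh_of_isInvertible hinv
    obtain ⟨t⟩ := FormalFun.nonempty_pullback_tensorPow i
      (IdealSh.IdealMod.isInvertible_of_isEffCartierIdeal I hI) j
    obtain ⟨p'⟩ := nonempty_pullTensor i (CohB1.tensorPow (ClSub.idealMod I) j) (ClSub.quotMod I)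
    have e₁ : (Scheme.Modules.pullback i).obj (cokernel (α I (CohB1.tensorPow (ClSub.idealMod I) j))) ≅
        CohB1.tensorMod (CohB1.tensorPow ((Scheme.Modules.pullback i).obj (ClSub.idealMod I)) j)
          ((Scheme.Modules.pullback i).obj (ClSub.quotMod I)) :=
      (Scheme.Modules.pullback i).mapIso (cokerαIso I (CohB1.tensorPow (ClSub.idealMod I) j)) ≪≫ p' ≪≫
        ProjTwist.tensCongr t (Iso.refl _)
    have hq : Coh.IsCoh (ClSub.quotMod I) :=
      ProperFin.isCoh_push_of_isFinite I.subschemeι _ (ProperFin.isCoh_structureModule _)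
    have hQ : ∀ n, Coh.IsCoh (Q I n) := fun n =>
      CohDev.isCoh_cokernel _ (ProjTwist.isQCoh_of_isInvertible (isInvertible_pow hI n)) hO
    have h1 : Coh.IsCoh ((Scheme.Modules.pullback i).obj (cokernel (α I (CohB1.tensorPow (ClSub.idealMod I) j)))) :=
      CohDev.isCoh_of_iso e₁.symm (Snapper.isCoh_tensorMod k
        (AmpleLib.isInvertible_tensorPow (PicCl.isInvertible_pullback i
          (IdealSh.IdealMod.isInvertible_of_isEffCartierIdeal I hI)) j)
        (ZClosLib.CohDescent.isCoh_pullback i _ hq))
    have h := EulerChar.euler_add k hZ h1 (ZClosLib.CohDescent.isCoh_pullback i _ (hQ (j + 1)))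
      (ZClosLib.CohDescent.isCoh_pullback i _ (hQ j))
    rw [Finset.sum_range_succ, ← ih (Nat.le_of_succ_le hj)]
    exact (h.trans (add_comm _ _)).trans (congrArg (_ + ·) (EulerChar.euler_iso k e₁))

end Groth.Agent.CartFilt
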